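import Cfsg.Agent.S1446
import Cfsg.Agent.S1421
import Cfsg.Agent.S1435
import Cfsg.Agent.S1437
import Cfsg.Agent.S1438
import Cfsg.Agent.S1439
import Cfsg.Agent.Lib.OddMax.Sec15.NonTI.Main

/-!
Results of earlier sections used by section 16, gathered in one place.
-/

set_option autoImplicit false

namespace Cfsg.Agent.Lib.OddMax.Sec16

alias bg1421 := Cfsg.Agent.S1421.result
alias bg1435 := Cfsg.Agent.S1435.result
alias bg1437 := Cfsg.Agent.S1437.result
alias bg1438 := Cfsg.Agent.S1438.result
alias bg1439 := Cfsg.Agent.S1439.result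
alias bg1440 := Cfsg.Agent.Lib.OddMax.Sec15.NonTI.structure_nonTI
alias bg1446 := Cfsg.Agent.S1446.result

end Cfsg.Agent.Lib.OddMax.Sec16
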