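import Mathlib
import Cfsg.Agent.S1438
import Cfsg.Agent.Lib.OddMax.Sec10.Hall
import Cfsg.Agent.Lib.PSolvable.Core
import Cfsg.Agent.Lib.OddLocal.Setting

/-!
Bender-Glauberman, Theorem I (a): fusion in nilpotent Hall subgroups.
-/

set_option autoImplicit false
set_option linter.style.haveILetI false

namespace Cfsg.Agent.Lib.OddMax.Sec16

open Cfsg Subgroup
open Cfsg.Agent.Lib
open Cfsg.Agent.Lib.OddUniq (IsSylIn isSylIn_map)

universe u

variable {G : Type u} [Group G] [Finite G]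

/-- For a nilpotent Hall subgroup `H ≠ 1` there is a maximal `M` with `H ≤ M_σ`. -/
theorem exists_le_sigmaCore_of_nilpotent_hall (hG : IsMinSimpleOddOrder G) {H : Subgroup G}
    (hHn : Group.IsNilpotent H) (hHall : (Nat.card H).Coprime H.index) (hH1 : H ≠ ⊥) :
    ∃ M : Subgroup G, IsCoatom M ∧ H ≤ sigmaCore M := by
  haveI := hHn
  have hsyl : ∀ q : ℕ, q.Prime → q ∣ Nat.card H → ∀ Q : Sylow q H,
      IsSylIn q ((Q : Subgroup H).map H.subtype) (⊤ : Subgroup G) := by
    intro q hq hd Q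
    haveI := Fact.mk hq
    refine OddUniq.isSylIn_of_not_dvd_relIndex le_top (Q.2.map _) ?_
    rw [Subgroup.relIndex_top_right, Subgroup.index_map, H.ker_subtype, sup_bot_eq,
      Subgroup.range_subtype]
    exact fun h => (hq.dvd_mul.mp h).elim Q.not_dvd_index fun h' =>
      hq.not_dvd_one (Nat.eq_one_of_dvd_coprimes hHall hd h' ▸ dvd_rfl)
  have hne : Nat.card H ≠ 1 := fun h => hH1 (Subgroup.card_eq_one.mp h)
  obtain ⟨p, hp, hpd⟩ := Nat.exists_prime_and_dvd hne
  haveI := Fact.mk hp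
  obtain ⟨P⟩ : Nonempty (Sylow p H) := inferInstance
  set P' := (P : Subgroup H).map H.subtype
  have hPn : ∀ (q : ℕ) (Q : Sylow q H), q.Prime → (Q : Subgroup H).Normal := fun q Q hq => by
    haveI := Fact.mk hq
    exact Sylow.normal_of_normalizerCondition Group.normalizerCondition_of_isNilpotent Q
  have hHP : H ≤ normalizer (P' : Set G) := by
    haveI := hPn p P hp
    exact OddUniq.le_normalizer_map_subtype _
  have hP1 : P' ≠ ⊥ := by
    intro h
    rw [Subgroup.map_eq_bot_iff_of_injective _ H.subtype_injective] at h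
    exact P.ne_bot_of_dvd_card hpd h
  obtain ⟨M, hM, hNM⟩ := OddLocal.exists_coatom_ge (OddLocal.minSimple_normalizer_ne_top hG hP1
    (OddUniq.ne_top_of_isPGroup hG (P.2.map _)))
  refine ⟨M, hM, ?_⟩
  have hHM : H ≤ M := hHP.trans hNM
  have hP'M : IsSylIn p P' M := (hsyl p hp hpd P).mono le_top (Subgroup.le_normalizer.trans hNM)
  have hpM : p ∣ Nat.card M := hpd.trans (card_dvd_of_le hHM)
  have hpσ : p ∈ sigma M := mem_sigma_of_normalizer_le hp hpM hP'M hNM
  have hP'σ : P' ≤ sigmaCore M := Sec10.le_sigmaCore_of_isSylIn hG hM hpσ hP'M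
  have hP'Hall : (Nat.card P').Coprime (P'.relIndex (sigmaCore M)) := by
    obtain ⟨k, hk⟩ := IsPGroup.iff_card.mp ((P.2.map H.subtype))
    rw [hk]
    refine Nat.Coprime.pow_left k (hp.coprime_iff_not_dvd.mpr fun h => ?_)
    exact (hP'M.mono (sigmaCore_le M) hP'σ).not_dvd_relIndex h
  obtain ⟨⟨X, hXc, hXτ, hCM⟩, -⟩ := Cfsg.Agent.S1438.result hG M hM P' hP'σ hP1 hP'Hall
  suffices h : (sigmaCore M).subgroupOf H = ⊤ from Subgroup.subgroupOf_eq_top.mp h
  refine Fitting.eq_top_of_sylow_le fun q hq => ?_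
  haveI := Fact.mk hq
  obtain ⟨Q⟩ : Nonempty (Sylow q H) := inferInstance
  refine ⟨Q, fun y hy => ?_⟩
  by_cases hqd : q ∣ Nat.card H
  swap
  · rw [Subgroup.eq_bot_of_card_eq (Q : Subgroup H)
      ((Q.2.card_eq_or_dvd).resolve_right fun h => hqd (h.trans (card_subgroup_dvd_card _))),
      Subgroup.mem_bot] at hy
    rw [hy]; exact one_mem _
  set Q' := (Q : Subgroup H).map H.subtype
  have hQ'M : IsSylIn q Q' M := (hsyl q hq hqd Q).mono le_top ((map_subtype_le _).trans hHM)
  suffices hqσ : q ∈ sigma M from Subgroup.mem_subgroupOf.mpr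
    (Sec10.le_sigmaCore_of_isSylIn hG hM hqσ hQ'M (Subgroup.mem_map_of_mem _ hy))
  rcases eq_or_ne q p with rfl | hqp
  · exact hpσ
  by_contra hqσ
  -- `Q'` centralises `P'`, so it embeds in the cyclic group `X`
  set C := sigmaCore M ⊓ centralizer (P' : Set G)
  have hQC : Q' ≤ C ⊔ X := by
    rw [← hCM]
    refine le_inf ((map_subtype_le _).trans hHM) ?_
    have hd : Disjoint (P : Subgroup H) (Q : Subgroup H) :=
      IsPGroup.disjoint_of_ne p q hqp.symm _ _ P.2 Q.2
    rintro _ ⟨b, hb, rfl⟩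
    refine Subgroup.mem_centralizer_iff.mpr ?_
    rintro _ ⟨a, ha, rfl⟩
    rw [← map_mul, ← map_mul, (Subgroup.commute_of_normal_of_disjoint _ _ (hPn p P hp) (hPn q Q hq)
      hd a b ha hb).eq]
  set L := C ⊔ X
  have hLM : L ≤ M := hCM ▸ inf_le_left
  have hCn : L ≤ normalizer (C : Set G) := by
    refine (le_inf (hLM.trans (le_normalizer_sigmaCore M)) ?_).trans
      Subgroup.inf_normalizer_le_normalizer_inf
    exact (le_trans (hCM ▸ inf_le_right) Subgroup.le_normalizer)
  haveI : (C.subgroupOf L).Normal :=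
    (Subgroup.normal_subgroupOf_iff_le_normalizer le_sup_left).mpr hCn
  have htop : C.subgroupOf L ⊔ X.subgroupOf L = ⊤ := by
    rw [← Subgroup.subgroupOf_sup le_sup_left le_sup_right, Subgroup.subgroupOf_self]
  haveI : IsCyclic (X.subgroupOf L) := (subgroupOfEquivOfLe le_sup_right).isCyclic.mpr hXc
  have hsurj : Function.Surjective ((QuotientGroup.mk' (C.subgroupOf L)).comp (X.subgroupOf L).subtype) := by
    rw [← MonoidHom.range_eq_top, MonoidHom.range_comp, Subgroup.range_subtype]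
    have h := Subgroup.map_sup (C.subgroupOf L) (X.subgroupOf L) (QuotientGroup.mk' (C.subgroupOf L))
    rw [htop, Subgroup.map_top_of_surjective _ (QuotientGroup.mk'_surjective _),
      QuotientGroup.map_mk'_self, bot_sup_eq] at h
    exact h.symm
  haveI : IsCyclic (L ⧸ C.subgroupOf L) := isCyclic_of_surjective _ hsurj
  have hQC1 : Q' ⊓ C = ⊥ := by
    refine PSolvable.inf_eq_bot_of_isPGroup_of_coprime (p := q) (Q.2.map _) ?_
    exact Nat.Coprime.symm (hq.coprime_iff_not_dvd.mpr fun h =>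
      hqσ (mem_sigma_of_dvd_sigmaCore hq (h.trans (card_dvd_of_le inf_le_left))))
  have hinj : Function.Injective
      ((QuotientGroup.mk' (C.subgroupOf L)).comp (Subgroup.inclusion hQC)) := by
    rw [← MonoidHom.ker_eq_bot_iff, Subgroup.eq_bot_iff_forall]
    intro x hx
    rw [MonoidHom.mem_ker, MonoidHom.comp_apply, QuotientGroup.mk'_apply,
      QuotientGroup.eq_one_iff] at hx
    have hx' : (x : G) ∈ Q' ⊓ C := ⟨x.2, hx⟩
    rw [hQC1, Subgroup.mem_bot] at hx'
    exact Subtype.ext hx'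
  haveI : IsCyclic Q' := isCyclic_of_injective _ hinj
  have hdQ : q ∣ Nat.card Q' := (Q.2.map H.subtype).card_eq_or_dvd.resolve_left fun h =>
    Q.ne_bot_of_dvd_card hqd ((Subgroup.map_eq_bot_iff_of_injective _ H.subtype_injective).mp
      (Subgroup.eq_bot_of_card_eq _ h))
  have hdX : q ∣ Nat.card X := by
    have h1 : Nat.card Q' ∣ Nat.card L := card_dvd_of_le hQC
    have h2 : C.relIndex L ∣ Nat.card X := by
      rw [← Nat.card_congr (subgroupOfEquivOfLe (le_sup_right : X ≤ L)).toEquiv]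
      exact Subgroup.card_dvd_of_surjective _ hsurj
    rcases hq.dvd_mul.mp ((PSolvable.card_mul_relIndex (le_sup_left : C ≤ L)).symm ▸ hdQ.trans h1)
      with h | h
    · exact absurd (mem_sigma_of_dvd_sigmaCore hq (h.trans (card_dvd_of_le inf_le_left))) hqσ
    · exact h.trans h2
  refine (hXτ q hq hdX).2.2.2 ((pRankLE_iff_isSylIn hQ'M).mp ?_)
  intro E hEc hE
  rw [pow_one]
  haveI : IsCyclic E := Subgroup.isCyclic E
  obtain ⟨e, he⟩ := (inferInstance : IsCyclic E).exists_generator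
  rw [← orderOf_eq_card_of_forall_mem_zpowers he]
  exact Nat.le_of_dvd hq.pos (orderOf_dvd_of_pow_eq_one (Subtype.ext (by simpa using hE e e.2)))

/-- Theorem I (a). -/
theorem fusion_nilpotent_hall (hG : IsMinSimpleOddOrder G) {H : Subgroup G}
    (hHn : Group.IsNilpotent H) (hHall : (Nat.card H).Coprime H.index) {x : G} (hx : x ∈ H) {g : G}
    (hg : g * x * g⁻¹ ∈ H) : ∃ n ∈ normalizer (H : Set G), n * x * n⁻¹ = g * x * g⁻¹ := by
  by_cases hH1 : H = ⊥
  · subst hH1
    rw [Subgroup.mem_bot] at hx hg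
    exact ⟨1, one_mem _, by rw [hg, hx]; simp⟩
  obtain ⟨M, hM, hHσ⟩ := exists_le_sigmaCore_of_nilpotent_hall hG hHn hHall hH1
  obtain ⟨-, h⟩ := Cfsg.Agent.S1438.result hG M hM H hHσ hH1
    (hHall.coprime_dvd_right (Subgroup.relIndex_dvd_index_of_le hHσ))
  obtain ⟨n, hn, he⟩ := h x hx g hg
  exact ⟨n, hn.2, he⟩

end Cfsg.Agent.Lib.OddMax.Sec16
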